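import Groth.Agent.S17241
import Mathlib

set_option autoImplicit false

/-! The system spanned by polar parts, with the order at infinity allowed to be zero. -/

namespace Groth.Agent.EffDivW

open Polynomial Groth.Agent.S17241

theorem main
    (k : Type*) [Field k] [CharZero k] (m : ℕ) (r : Fin m → k) (hr : Function.Injective r)
    (a : Fin m → ℕ) (ha : ∀ j, 1 ≤ a j) (b : ℕ) (N : ℕ)
    (hN : N = (∑ j, a j) + b)
    (V : Submodule k (Polynomial k))
    (hV : V = (Polynomial.degreeLT k b).map (LinearMap.mulLeft k (∏ j, (X - C (r j)) ^ (a j + 1))) ⊔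
      ⨆ i, (Polynomial.degreeLT k (a i)).map
        (LinearMap.mulLeft k (∏ j ∈ Finset.univ.erase i, (X - C (r j)) ^ (a j + 1)))) :
    Module.finrank k ↥V = N ∧
    (∀ R : Polynomial k, R.natDegree ≤ N → psi r a R ∈ V) ∧
    (∀ (i : Fin m) (n : ℕ), Module.finrank k ↥(V ⊓ (Ideal.span {(X - C (r i)) ^ n}).restrictScalars k) =
        if n ≤ a i then N - n else N + 1 - n) := by
  classical
  set A := ∑ j, a j with hA
  set D : k[X] := ∏ j, (X - C (r j)) ^ (a j + 1) with hD
  set Di : Fin m → k[X] := fun i => ∏ j ∈ Finset.univ.erase i, (X - C (r j)) ^ (a j + 1) with hDi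
  have hDi' : ∀ i, D = (X - C (r i)) ^ (a i + 1) * Di i := fun i => (Finset.mul_prod_erase _ _ (Finset.mem_univ i)).symm
  have hlow : N ≤ Module.finrank k ↥V := by
    let Φ : (degreeLT k b × ((i : Fin m) → degreeLT k (a i))) →ₗ[k] k[X] :=
      LinearMap.coprod ((LinearMap.mulLeft k D).comp (degreeLT k b).subtype)
        (∑ i, (LinearMap.mulLeft k (Di i)).comp ((degreeLT k (a i)).subtype.comp (LinearMap.proj i)))
    have hΦ : ∀ p, Φ p = D * p.1.1 + ∑ i, Di i * (p.2 i).1 := fun p => by simp [Φ]
    have hinj : Function.Injective Φ := by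
      rw [injective_iff_map_eq_zero]
      intro p hp
      rw [hΦ] at hp
      have hz : ∀ i, (p.2 i).1 = 0 := fun i => by
        have hdvd : (X - C (r i)) ^ (a i + 1) ∣ Di i * (p.2 i).1 := by
          have : Di i * (p.2 i).1 = -(D * p.1.1 + ∑ j ∈ Finset.univ.erase i, Di j * (p.2 j).1) := by
            rw [← Finset.add_sum_erase _ _ (Finset.mem_univ i)] at hp
            linear_combination hp
          rw [this, dvd_neg]
          refine dvd_add ((hDi' i ▸ dvd_mul_right _ _).mul_right _) (Finset.dvd_sum fun j hj => Dvd.dvd.mul_right ?_ _)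
          exact Finset.dvd_prod_of_mem _ (Finset.mem_erase.2 ⟨(Finset.mem_erase.1 hj).1.symm, Finset.mem_univ i⟩)
        have hcop : IsCoprime ((X - C (r i)) ^ (a i + 1)) (Di i) := IsCoprime.prod_right fun j hj =>
          (isCoprime_X_sub_C_of_isUnit_sub (sub_ne_zero.2 (fun h => (Finset.mem_erase.1 hj).1 (hr h).symm)).isUnit).pow
        refine eq_zero_of_dvd_of_degree_lt (hcop.dvd_of_dvd_mul_left hdvd) ?_
        rw [degree_pow, degree_X_sub_C, nsmul_one]
        exact lt_of_lt_of_le (mem_degreeLT.1 (p.2 i).2) (by exact_mod_cast Nat.le_succ _)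
      have h0 : p.1.1 = 0 := by
        simp only [hz, mul_zero, Finset.sum_const_zero, add_zero] at hp
        exact (mul_eq_zero.1 hp).resolve_left (Finset.prod_ne_zero_iff.2 fun j _ => pow_ne_zero _ (X_sub_C_ne_zero _))
      exact Prod.ext (Subtype.ext h0) (funext fun i => Subtype.ext (hz i))
    have hrg : LinearMap.range Φ ≤ V := by
      rintro _ ⟨p, rfl⟩
      rw [hΦ, hV]
      refine Submodule.add_mem_sup ⟨_, p.1.2, rfl⟩ (Submodule.sum_mem _ fun i _ => ?_)
      exact Submodule.mem_iSup_of_mem i ⟨_, (p.2 i).2, rfl⟩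
    have hVfd : Module.Finite k ↥V := by
      rw [hV]
      have : ∀ c : ℕ, Module.Finite k ↥(degreeLT k c) := fun c => Module.Finite.equiv (degreeLTEquiv k c).symm
      infer_instance
    have hc : ∀ c : ℕ, Module.finrank k ↥(degreeLT k c) = c := fun c => by
      rw [(degreeLTEquiv k c).finrank_eq, Module.finrank_fin_fun]
    refine le_trans ?_ (Submodule.finrank_mono hrg)
    rw [LinearMap.finrank_range_of_inj hinj]
    haveI : ∀ c : ℕ, Module.Finite k ↥(degreeLT k c) := fun c => Module.Finite.equiv (degreeLTEquiv k c).symm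
    rw [Module.finrank_prod, Module.finrank_pi_fintype, hc]
    simp only [hc]
    omega
  set W := sub (0 : k) (Finset.range (N + 1)) with hW
  have hmemW : ∀ R : k[X], R.natDegree ≤ N → R ∈ W := fun R h => mem_sub.2 fun e he => by
    rw [taylor_zero]
    exact coeff_eq_zero_of_natDegree_lt (by rw [Finset.mem_range] at he; omega)
  set G : k[X] := ∏ j, (X - C (r j)) ^ (a j) with hG
  set Gi : Fin m → k[X] := fun i => ∏ j ∈ Finset.univ.erase i, (X - C (r j)) ^ (a j) with hGi
  have hPG : P1 r * G = D := by
    rw [P1, hG, hD, ← Finset.prod_mul_distrib]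
    exact Finset.prod_congr rfl fun j _ => by rw [pow_succ]; ring
  have hGd : derivative G * P1 r = G * Q1 r a := by
    rw [hG, derivative_prod_finset, Finset.sum_mul, Q1, Finset.mul_sum]
    refine Finset.sum_congr rfl fun i _ => ?_
    rw [P1, ← Finset.mul_prod_erase _ _ (Finset.mem_univ i),
      ← Finset.mul_prod_erase Finset.univ (fun j => (X - C (r j)) ^ a j) (Finset.mem_univ i), derivative_X_sub_C_pow]
    have := ha i
    conv_rhs => rw [show a i = a i - 1 + 1 by omega, pow_succ, show a i - 1 + 1 = a i by omega]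
    ring
  have hpsiG : ∀ p : k[X], psi r a (p * G) = derivative p * D := fun p => by
    rw [psi_apply, derivative_mul, ← hPG]
    linear_combination p * hGd
  have hGne : G ≠ 0 := Finset.prod_ne_zero_iff.2 fun j _ => pow_ne_zero _ (X_sub_C_ne_zero _)
  have hGN : G.natDegree = A := by
    rw [hG, natDegree_prod _ _ fun j _ => pow_ne_zero _ (X_sub_C_ne_zero _)]
    simp [hA]
  have hVle : V ≤ W.map (psi r a) := by
    rw [hV, sup_le_iff, iSup_le_iff]
    constructor
    · rintro _ ⟨p, hp, rfl⟩
      rcases eq_or_ne p 0 with rfl | hp0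
      · simp
      have hsum : (LinearMap.mulLeft k D) p = psi r a ((∑ e ∈ Finset.range b, C (p.coeff e / (e + 1)) * X ^ (e + 1)) * G) := by
        rw [hpsiG, LinearMap.mulLeft_apply, mul_comm, derivative_sum]
        congr 1
        conv_lhs => rw [as_sum_range' p b (by
          exact (natDegree_lt_iff_degree_lt hp0).2 (mem_degreeLT.1 hp))]
        refine Finset.sum_congr rfl fun e _ => ?_
        rw [derivative_C_mul, derivative_X_pow, ← C_mul_X_pow_eq_monomial, Nat.add_sub_cancel, ← mul_assoc, ← map_mul]
        congr 2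
        have : (e : k) + 1 ≠ 0 := Nat.cast_add_one_ne_zero e
        push_cast
        field_simp
      rw [hsum]
      refine Submodule.mem_map_of_mem (hmemW _ (natDegree_mul_le.trans ?_))
      have : (∑ e ∈ Finset.range b, C (p.coeff e / (e + 1)) * X ^ (e + 1)).natDegree ≤ b :=
        natDegree_sum_le_of_forall_le _ _ fun e he => (natDegree_C_mul_X_pow_le _ _).trans (by
          have := Finset.mem_range.1 he; omega)
      omega
    · intro i
      rintro _ ⟨p, hp, rfl⟩
      have hpd : p ∈ sub (r i) (Finset.range (a i)) := mem_sub.2 fun e he => by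
        rw [Finset.mem_range, not_lt] at he
        rcases eq_or_ne p 0 with rfl | h0
        · simp
        refine coeff_eq_zero_of_natDegree_lt ?_
        rw [natDegree_taylor']
        exact lt_of_lt_of_le ((natDegree_lt_iff_degree_lt h0).2 (mem_degreeLT.1 hp)) he
      have hbasic : ∀ e, e < a i → psi r a ((X - C (r i)) ^ e * Gi i) = C ((e : k) - a i) * ((X - C (r i)) ^ e * Di i) := by
        intro e he
        refine mul_left_cancel₀ (pow_ne_zero (a i) (X_sub_C_ne_zero (r i))) ?_
        have e1 : (X - C (r i)) ^ a i * ((X - C (r i)) ^ e * Gi i) = (X - C (r i)) ^ e * G := by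
          rw [hG, ← Finset.mul_prod_erase _ _ (Finset.mem_univ i)]; ring
        have e2 := hpsiG ((X - C (r i)) ^ e)
        rw [← e1, psi_apply, derivative_mul, derivative_X_sub_C_pow, derivative_X_sub_C_pow, hDi' i] at e2
        have e3 : (C (a i : k) * (X - C (r i)) ^ (a i - 1)) * P1 r =
            C (a i : k) * (X - C (r i)) ^ (a i) * ∏ l ∈ Finset.univ.erase i, (X - C (r l)) := by
          rw [P1, ← Finset.mul_prod_erase _ _ (Finset.mem_univ i)]
          have := ha i
          conv_rhs => rw [show a i = a i - 1 + 1 by omega, pow_succ, show a i - 1 + 1 = a i by omega]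
          ring
        have e4 : (∏ l ∈ Finset.univ.erase i, (X - C (r l))) * Gi i = Di i := by
          rw [hGi, hDi]
          simp only [← Finset.prod_mul_distrib]
          exact Finset.prod_congr rfl fun j _ => by rw [pow_succ]; ring
        have e5 : C (e : k) * (X - C (r i)) ^ (e - 1) * (X - C (r i)) = C (e : k) * (X - C (r i)) ^ e := by
          rcases e with _ | e
          · simp
          · rw [Nat.add_sub_cancel, pow_succ]; ring
        rw [psi_apply, map_sub]
        simp only [map_natCast] at e2 e3 e5 ⊢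
        linear_combination e2 - (X - C (r i)) ^ e * Gi i * e3 - (a i : k[X]) * (X - C (r i)) ^ a i * (X - C (r i)) ^ e * e4 +
          (X - C (r i)) ^ a i * Di i * e5
      have hrep : (LinearMap.mulLeft k (Di i)) p = psi r a (∑ e ∈ Finset.range (a i),
          ((taylor (r i) p).coeff e / ((e : k) - a i)) • ((X - C (r i)) ^ e * Gi i)) := by
        rw [map_sum, LinearMap.mulLeft_apply]
        have hp' : p = ∑ e ∈ Finset.range (a i), (taylor (r i) p).coeff e • (X - C (r i)) ^ e := by
          refine taylor_injective (r i) (Polynomial.ext fun l => ?_)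
          simp only [map_sum, map_smul, taylor_pow_sub, finsetSum_coeff, coeff_smul, coeff_X_pow]
          by_cases hl : l ∈ Finset.range (a i)
          · rw [Finset.sum_eq_single l (fun x _ hx => by rw [if_neg hx.symm, smul_zero]) (fun h => absurd hl h),
              if_pos rfl, smul_eq_mul, mul_one]
          · rw [mem_sub.1 hpd l hl, Finset.sum_eq_zero fun x hx => by rw [if_neg (fun h => hl (by rw [h]; exact hx)), smul_zero]]
        conv_lhs => rw [hp', Finset.mul_sum]
        refine Finset.sum_congr rfl fun e he => ?_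
        rw [map_smul, hbasic e (Finset.mem_range.1 he), ← smul_eq_C_mul, smul_smul, div_mul_cancel₀, mul_smul_comm, mul_comm (Di i)]
        exact sub_ne_zero.2 fun h => by have := Nat.cast_injective h; have := Finset.mem_range.1 he; omega
      rw [hrep]
      refine Submodule.mem_map_of_mem (Submodule.sum_mem _ fun e he => Submodule.smul_mem _ _ (hmemW _ (natDegree_mul_le.trans ?_)))
      have h1 : (Gi i).natDegree + a i = A := by
        rw [hA, hGi, natDegree_prod _ _ fun j _ => pow_ne_zero _ (X_sub_C_ne_zero _), ← Finset.add_sum_erase Finset.univ a (Finset.mem_univ i)]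
        simp [add_comm]
      rw [natDegree_pow, natDegree_X_sub_C, mul_one]
      have := Finset.mem_range.1 he
      omega
  haveI hWfin : Module.Finite k ↥W := Module.finite_of_finrank_pos (by rw [hW, finrank_sub, Finset.card_range]; omega)
  haveI : Module.Finite k ↥(W.map (psi r a)) := inferInstance
  have hImle : Module.finrank k ↥(W.map (psi r a)) ≤ N := by
    have hker : 0 < Module.finrank k ↥(LinearMap.ker ((psi r a).domRestrict W)) := by
      have h1 : psi r a G = 0 := by have := hpsiG 1; simpa using this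
      have hx : (⟨G, hmemW G (by omega)⟩ : ↥W) ∈ LinearMap.ker ((psi r a).domRestrict W) := by simpa using h1
      haveI : Nontrivial ↥(LinearMap.ker ((psi r a).domRestrict W)) :=
        ⟨⟨⟨_, hx⟩, 0, fun h => hGne (congrArg (fun x : ↥(LinearMap.ker ((psi r a).domRestrict W)) => x.1.1) h)⟩⟩
      exact (Module.finrank_pos_iff (R := k)).2 this
    have hrn := LinearMap.finrank_range_add_finrank_ker ((psi r a).domRestrict W)
    rw [LinearMap.range_domRestrict, hW, finrank_sub, Finset.card_range] at hrn
    rw [← hW] at hrn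
    omega
  have hVeq : V = W.map (psi r a) := Submodule.eq_of_le_of_finrank_le hVle (hImle.trans hlow)
  have hVN : Module.finrank k ↥V = N := le_antisymm ((Submodule.finrank_mono hVle).trans hImle) hlow
  haveI hVfin : Module.Finite k ↥V := Submodule.finiteDimensional_of_le hVle
  refine ⟨hVN, fun R hR => hVeq ▸ Submodule.mem_map_of_mem (hmemW R hR), fun i n => ?_⟩
  · set S := (Finset.range (N + 1)).erase (a i) with hS
    have hUW : sub (r i) S ≤ W := fun R hR => hmemW R (by
      rw [← natDegree_taylor' (r i) R]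
      refine natDegree_le_iff_coeff_eq_zero.2 fun e he => mem_sub.1 hR e ?_
      simp [S]; omega)
    have hd0 : ∀ R ∈ sub (r i) S, (taylor (r i) R).coeff (a i) = 0 := fun R hR => mem_sub.1 hR _ (by simp [S])
    have hinj : ∀ R ∈ sub (r i) S, psi r a R = 0 → R = 0 := fun R hR h0 => by
      by_contra hne
      have h2 := (psi_dvd_iff r hr a i (hd0 R hR) (R.natDegree + 1)).1 (by rw [h0]; exact dvd_zero _)
      have h3 := natDegree_le_of_dvd h2 hne
      rw [natDegree_pow, natDegree_X_sub_C, mul_one] at h3
      omega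
    have haN : a i < N + 1 := by
      have := Finset.single_le_sum (fun j _ => Nat.zero_le (a j)) (Finset.mem_univ i)
      omega
    have hVU : V = (sub (r i) S).map (psi r a) := by
      refine (Submodule.eq_of_le_of_finrank_le (Submodule.map_mono hUW |>.trans hVeq.ge) ?_).symm
      rw [hVN, finrank_map_inj _ hinj, finrank_sub, hS, Finset.card_erase_of_mem (Finset.mem_range.2 haN), Finset.card_range]
      omega
    have heq : V ⊓ (Ideal.span {(X - C (r i)) ^ n}).restrictScalars k = (sub (r i) (S.filter fun e => n ≤ e)).map (psi r a) := by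
      refine le_antisymm (fun v hv => ?_) ?_
      · obtain ⟨hv1, hv2⟩ := Submodule.mem_inf.1 hv
        rw [hVU] at hv1
        obtain ⟨R, hR, rfl⟩ := hv1
        refine Submodule.mem_map_of_mem (mem_sub.2 fun e he => ?_)
        by_cases heS : e ∈ S
        · have : e < n := by simp [heS] at he; exact he
          exact (dvd_iff_taylor _ n R).1 ((psi_dvd_iff r hr a i (hd0 R hR) n).1 (Ideal.mem_span_singleton.1 hv2)) e this
        · exact mem_sub.1 hR e heS
      · rintro _ ⟨R, hR, rfl⟩
        have hR' : R ∈ sub (r i) S := mem_sub.2 fun e he => mem_sub.1 hR e fun h => he (Finset.mem_filter.1 h).1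
        refine Submodule.mem_inf.2 ⟨hVU ▸ Submodule.mem_map_of_mem hR', Ideal.mem_span_singleton.2 ?_⟩
        exact (psi_dvd_iff r hr a i (hd0 R hR') n).2 ((dvd_iff_taylor _ n R).2 fun e he =>
          mem_sub.1 hR e fun h => absurd (Finset.mem_filter.1 h).2 (by omega))
    rw [heq, finrank_map_inj _ fun R hR => hinj R (mem_sub.2 fun e he => mem_sub.1 hR e fun h => he (Finset.mem_filter.1 h).1),
      finrank_sub, show (S.filter fun e => n ≤ e) = (Finset.Ico n (N + 1)).erase (a i) by ext e; simp [S]; omega]
    split_ifs with h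
    · rw [Finset.card_erase_of_mem (Finset.mem_Ico.2 ⟨h, haN⟩), Nat.card_Ico]; omega
    · rw [Finset.erase_eq_of_notMem (by simp; omega), Nat.card_Ico]

/-- Summing the dimensions of a system and of a hyperplane of it cut out in all levels below `N`. -/
theorem sum_cut (f g : ℕ → ℕ) (a N d : ℕ) (haN : a ≤ N) (hd : N ≤ d + 1) (haeq : a = N ∨ N ≤ d)
    (hf : ∀ n, f n = if n + 1 ≤ a then N - (n + 1) else N + 1 - (n + 1))
    (h1 : ∀ n, n + 2 ≤ N → g n + 1 = f n) (h2 : ∀ n, g n ≤ f n) (hN : 1 ≤ N) :
    ∃ ε : ℕ, ε ≤ 1 ∧ (∑ n ∈ Finset.range d, g n) + 1 = (N - 1).choose 2 + (N - a) + ε := by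
  obtain ⟨M, rfl⟩ := Nat.exists_eq_add_of_le hN
  rw [show 1 + M - 1 = M by omega]
  have hA : ∀ L, L ≤ M → ∑ n ∈ Finset.range L, g n = (∑ n ∈ Finset.range L, (M - 1 - n)) + (L - a) := by
    intro L
    induction L with
    | zero => simp
    | succ L ih =>
      intro hL
      rw [Finset.sum_range_succ, Finset.sum_range_succ, ih (by omega)]
      have := h1 L (by omega)
      have := hf L
      split_ifs at this <;> omega
  have hc : ∑ n ∈ Finset.range M, (M - 1 - n) = M.choose 2 := by
    rw [Finset.sum_range_reflect (fun n => n) M, Finset.sum_range_id, Nat.choose_two_right]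
  have htail : ∑ n ∈ Finset.Ico M d, g n ≤ if a ≤ M then 1 else 0 := by
    refine le_trans (Finset.sum_le_sum fun n _ => h2 n) ?_
    rcases Nat.lt_or_ge M d with h | h
    · rw [Finset.sum_eq_sum_Ico_succ_bot h, Finset.sum_eq_zero fun n hn => ?_, hf M]
      · split_ifs <;> omega
      · rw [hf n]; have := (Finset.mem_Ico.1 hn).1; split_ifs <;> omega
    · rw [Finset.Ico_eq_empty (by omega), Finset.sum_empty]; exact Nat.zero_le _
  have hsplit := Finset.sum_range_add_sum_Ico g (show M ≤ d by omega)
  rw [hA M le_rfl, hc] at hsplit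
  rcases Nat.lt_or_ge M a with h | h
  · refine ⟨1, le_rfl, ?_⟩
    rw [if_neg (by omega)] at htail
    omega
  · refine ⟨∑ n ∈ Finset.Ico M d, g n, ?_, by omega⟩
    rwa [if_pos h] at htail

variable {k : Type*} [Field k]

/-- Cutting by a condition of rank at most one. -/
theorem finrank_cut (S : Submodule k k[X]) [Module.Finite k ↥S] (e : k[X] →ₗ[k] k) :
    Module.finrank k ↥(S ⊓ LinearMap.ker e) ≤ Module.finrank k ↥S ∧
    Module.finrank k ↥S ≤ Module.finrank k ↥(S ⊓ LinearMap.ker e) + 1 ∧
    ((∃ v ∈ S, e v ≠ 0) → Module.finrank k ↥(S ⊓ LinearMap.ker e) + 1 = Module.finrank k ↥S) := by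
  have h := LinearMap.finrank_range_add_finrank_ker (e.domRestrict S)
  have hk : Module.finrank k ↥(LinearMap.ker (e.domRestrict S)) = Module.finrank k ↥(S ⊓ LinearMap.ker e) := by
    rw [show LinearMap.ker (e.domRestrict S) = (S ⊓ LinearMap.ker e).comap S.subtype by
      ext x; simp]
    exact (Submodule.comapSubtypeEquivOfLe inf_le_left).finrank_eq
  have h1 : Module.finrank k ↥(LinearMap.range (e.domRestrict S)) ≤ 1 :=
    (Submodule.finrank_le _).trans (Module.finrank_self k).le
  refine ⟨by omega, by omega, fun ⟨v, hv, hv'⟩ => ?_⟩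
  have : LinearMap.range (e.domRestrict S) ≠ ⊥ := fun hb => hv' (by
    have : e.domRestrict S ⟨v, hv⟩ ∈ LinearMap.range (e.domRestrict S) := LinearMap.mem_range_self _ _
    rw [hb] at this
    simpa using this)
  have : 0 < Module.finrank k ↥(LinearMap.range (e.domRestrict S)) := by
    rw [Nat.pos_iff_ne_zero, Ne, Submodule.finrank_eq_zero]
    exact this
  omega

end Groth.Agent.EffDivW
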