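import Groth.Agent.EffDivW.PolarSum
import Mathlib

set_option autoImplicit false

/-! The system spanned by polar parts at an unmarked point. -/

namespace Groth.Agent.EffDivW

open Polynomial Groth.Agent.S17241

variable {k : Type*} [Field k] [CharZero k] {m : ℕ} (r : Fin m → k) (a : Fin m → ℕ)

/-- The primitive normalisation. -/
noncomputable def G0 : k[X] := ∏ j, (X - C (r j)) ^ (a j)

theorem G0_eval {q : k} (hq : ∀ j, q ≠ r j) : (G0 r a).eval q ≠ 0 := by
  rw [G0, eval_prod]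
  exact Finset.prod_ne_zero_iff.2 fun j _ => by simp [sub_eq_zero, hq j]

theorem P1_eval {q : k} (hq : ∀ j, q ≠ r j) : (P1 r).eval q ≠ 0 := by
  rw [P1, eval_prod]
  exact Finset.prod_ne_zero_iff.2 fun j _ => by simp [sub_eq_zero, hq j]

theorem natDegree_G0 : (G0 r a).natDegree = ∑ j, a j := by
  rw [G0, natDegree_prod _ _ fun j _ => pow_ne_zero _ (X_sub_C_ne_zero _)]
  simp

theorem psi_G0 (ha : ∀ j, 1 ≤ a j) : psi r a (G0 r a) = 0 := by
  rw [psi_apply, sub_eq_zero, G0, derivative_prod_finset, Finset.sum_mul, Q1, Finset.mul_sum]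
  refine Finset.sum_congr rfl fun i _ => ?_
  rw [P1, ← Finset.mul_prod_erase _ _ (Finset.mem_univ i),
    ← Finset.mul_prod_erase Finset.univ (fun j => (X - C (r j)) ^ a j) (Finset.mem_univ i), derivative_X_sub_C_pow]
  have := ha i
  conv_rhs => rw [show a i = a i - 1 + 1 by omega, pow_succ, show a i - 1 + 1 = a i by omega]
  ring

theorem psi_pow_eval (p q : k) (n : ℕ) : (psi r a ((X - C q) ^ (n + 1))).eval p =
    (p - q) ^ n * ((n + 1 : k) * (P1 r).eval p - (p - q) * (Q1 r a).eval p) := by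
  rw [psi_apply, derivative_X_sub_C_pow, Nat.add_sub_cancel]
  simp [pow_succ]
  ring

theorem dvd_psi_unmarked (ha : ∀ j, 1 ≤ a j) {q : k} (hq : ∀ j, q ≠ r j) {n : ℕ} {R : k[X]}
    (h : (X - C q) ^ n ∣ psi r a R) : ∃ c : k, (X - C q) ^ (n + 1) ∣ R - c • G0 r a := by
  refine ⟨R.eval q / (G0 r a).eval q, ?_⟩
  generalize hR0 : R - (R.eval q / (G0 r a).eval q) • G0 r a = R0
  have hroot : R0.IsRoot q := by
    rw [← hR0, IsRoot, eval_sub, eval_smul, smul_eq_mul, div_mul_cancel₀ _ (G0_eval r a hq), sub_self]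
  have h' : (X - C q) ^ n ∣ psi r a R0 := by
    rw [← hR0, map_sub, map_smul, psi_G0 r a ha, smul_zero, sub_zero]
    exact h
  by_cases h0 : R0 = 0
  · simp [h0]
  obtain ⟨R2, hR2, hnd⟩ := exists_eq_pow_rootMultiplicity_mul_and_not_dvd R0 h0 q
  have he : 0 < rootMultiplicity q R0 := (rootMultiplicity_pos h0).2 hroot
  generalize rootMultiplicity q R0 = e at hR2 he
  obtain ⟨e', rfl⟩ : ∃ e', e = e' + 1 := ⟨e - 1, by omega⟩
  by_cases hne : n + 1 ≤ e' + 1
  · exact hR2 ▸ dvd_mul_of_dvd_left (pow_dvd_pow _ hne) _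
  exfalso
  have hpsi : psi r a R0 = (X - C q) ^ e' *
      (C (e' + 1 : k) * R2 * P1 r + (X - C q) * (derivative R2 * P1 r - R2 * Q1 r a)) := by
    rw [psi_apply, hR2, derivative_mul, derivative_X_sub_C_pow, Nat.add_sub_cancel, Nat.cast_add, Nat.cast_one, pow_succ]
    ring
  obtain ⟨c, hc⟩ := dvd_trans (pow_dvd_pow _ (show e' + 1 ≤ n by omega)) h'
  rw [hpsi, pow_succ, mul_assoc ((X - C q) ^ e') (X - C q)] at hc
  have := congrArg (eval q) (mul_left_cancel₀ (pow_ne_zero _ (X_sub_C_ne_zero _)) hc)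
  simp at this
  rcases this with (h1 | h1) | h1
  · exact Nat.cast_add_one_ne_zero e' h1
  · exact hnd (dvd_iff_isRoot.2 h1)
  · exact P1_eval r hq h1

variable {a} {N : ℕ} {V : Submodule k k[X]}

theorem exists_psi (ha : ∀ j, 1 ≤ a j) (hA : (∑ j, a j) ≤ N) (hN : 1 ≤ N) (hdim : Module.finrank k ↥V = N)
    (hmem : ∀ R : k[X], R.natDegree ≤ N → psi r a R ∈ V) {v : k[X]} (hv : v ∈ V) :
    ∃ R : k[X], R.natDegree ≤ N ∧ v = psi r a R := by
  classical
  obtain ⟨q, hq⟩ := Infinite.exists_notMem_finset (Finset.univ.image r)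
  have hq' : ∀ j, q ≠ r j := fun j h => hq (Finset.mem_image.2 ⟨j, Finset.mem_univ j, h.symm⟩)
  set W := sub (0 : k) (Finset.range (N + 1)) with hW
  have hWdeg : ∀ R ∈ W, R.natDegree ≤ N := fun R hR => natDegree_le_iff_coeff_eq_zero.2 fun e he => by
    have := mem_sub.1 hR e (by simp; omega)
    rwa [taylor_zero] at this
  haveI : Module.Finite k ↥W := Module.finite_of_finrank_pos (by rw [hW, finrank_sub, Finset.card_range]; omega)
  haveI : Module.Finite k ↥V := Module.finite_of_finrank_pos (by omega)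
  have hle : W.map (psi r a) ≤ V := by
    rintro _ ⟨R, hR, rfl⟩; exact hmem R (hWdeg R hR)
  have hker : Module.finrank k ↥(LinearMap.ker ((psi r a).domRestrict W)) ≤ 1 := by
    refine (LinearMap.finrank_le_finrank_of_injective (f := ((leval q).comp W.subtype).comp
      (LinearMap.ker ((psi r a).domRestrict W)).subtype) ?_).trans (Module.finrank_self k).le
    refine (injective_iff_map_eq_zero _).2 fun R hR => Subtype.ext (Subtype.ext ?_)
    have h0 : psi r a R.1.1 = 0 := R.2
    obtain ⟨c, hc⟩ := dvd_psi_unmarked r a ha hq' (n := N) (R := R.1.1) (by rw [h0]; exact dvd_zero _)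
    have hz : R.1.1 - c • G0 r a = 0 := eq_zero_of_dvd_of_natDegree_lt hc (by
      rw [natDegree_pow, natDegree_X_sub_C, mul_one]
      exact Nat.lt_succ_of_le ((natDegree_sub_le _ _).trans (max_le (hWdeg _ R.1.2)
        ((natDegree_smul_le _ _).trans (by rw [natDegree_G0]; exact hA)))))
    have heval : R.1.1.eval q = 0 := by simpa [leval_apply] using hR
    rw [sub_eq_zero] at hz
    rw [hz, eval_smul, smul_eq_mul, mul_eq_zero] at heval
    rw [heval.resolve_right (G0_eval r a hq'), zero_smul] at hz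
    exact hz
  have hrn := LinearMap.finrank_range_add_finrank_ker ((psi r a).domRestrict W)
  rw [LinearMap.range_domRestrict, show Module.finrank k ↥W = N + 1 by rw [hW, finrank_sub, Finset.card_range]] at hrn
  rw [← Submodule.eq_of_le_of_finrank_le hle (by omega)] at hv
  obtain ⟨R, hR, rfl⟩ := hv
  exact ⟨R, hWdeg R hR, rfl⟩

theorem vanish_top (ha : ∀ j, 1 ≤ a j) (hA : (∑ j, a j) ≤ N) (hN : 1 ≤ N) (hdim : Module.finrank k ↥V = N)
    (hmem : ∀ R : k[X], R.natDegree ≤ N → psi r a R ∈ V) {q : k} (hq : ∀ j, q ≠ r j) {v : k[X]} (hv : v ∈ V) :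
    ((X - C q) ^ N ∣ v → v = 0) ∧
    ((X - C q) ^ (N - 1) ∣ v → ∃ c : k, v = c • psi r a ((X - C q) ^ N)) ∧
    (2 ≤ N → (X - C q) ^ (N - 2) ∣ v →
      v ∈ Submodule.span k ({psi r a ((X - C q) ^ (N - 1)), psi r a ((X - C q) ^ N)} : Set k[X])) := by
  obtain ⟨R, hR, rfl⟩ := exists_psi r ha hA hN hdim hmem hv
  have key : ∀ n, (X - C q) ^ n ∣ psi r a R → ∃ S : k[X], psi r a R = psi r a ((X - C q) ^ (n + 1) * S) ∧
      (S = 0 ∨ n + 1 + S.natDegree ≤ N) := fun n hn => by
    obtain ⟨c, S, hS⟩ := dvd_psi_unmarked r a ha hq hn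
    refine ⟨S, ?_, ?_⟩
    · rw [← hS, map_sub, map_smul, psi_G0 r a ha, smul_zero, sub_zero]
    · by_cases hS0 : S = 0
      · exact Or.inl hS0
      have h1 : (R - c • G0 r a).natDegree ≤ N :=
        (natDegree_sub_le _ _).trans (max_le hR ((natDegree_smul_le _ _).trans (by rw [natDegree_G0]; exact hA)))
      rw [hS, natDegree_mul (pow_ne_zero _ (X_sub_C_ne_zero _)) hS0, natDegree_pow, natDegree_X_sub_C, mul_one] at h1
      exact Or.inr h1
  refine ⟨fun h => ?_, fun h => ?_, fun hN h => ?_⟩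
  · obtain ⟨S, hS, rfl | hd⟩ := key N h
    · rw [hS, mul_zero, map_zero]
    · omega
  · obtain ⟨S, hS, hd⟩ := key (N - 1) h
    rw [show N - 1 + 1 = N by omega] at hS
    refine ⟨S.coeff 0, ?_⟩
    have hS0 : S = C (S.coeff 0) := by
      rcases hd with rfl | hd
      · simp
      · exact eq_C_of_natDegree_eq_zero (by omega)
    rw [hS, ← map_smul]
    congr 1
    conv_lhs => rw [hS0]
    rw [smul_eq_C_mul, mul_comm]
  · obtain ⟨S, hS, hd⟩ := key (N - 2) h
    rw [show N - 2 + 1 = N - 1 by omega] at hS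
    have hS1 : S.natDegree ≤ 1 := by
      rcases hd with rfl | hd
      · simp
      · omega
    obtain ⟨u, w, huw⟩ : ∃ u w : k, S = C u + C w * (X - C q) := by
      refine ⟨S.coeff 0 + S.coeff 1 * q, S.coeff 1, ?_⟩
      conv_lhs => rw [eq_X_add_C_of_natDegree_le_one hS1]
      rw [map_add, map_mul]
      ring
    rw [Submodule.mem_span_pair]
    refine ⟨u, w, ?_⟩
    rw [hS, ← map_smul, ← map_smul, ← map_add, huw, smul_eq_C_mul, smul_eq_C_mul]
    congr 1
    rw [show (X - C q) ^ N = (X - C q) ^ (N - 1) * (X - C q) by rw [← pow_succ]; congr 1; omega]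
    ring

omit [CharZero k] in
theorem finrank_le_one_of_le_span_pair {S : Submodule k k[X]} {u w : k[X]}
    (h : S ≤ Submodule.span k {u, w}) (hn : ¬ (u ∈ S ∧ w ∈ S)) : Module.finrank k ↥S ≤ 1 := by
  classical
  have hlt : S < Submodule.span k {u, w} := lt_of_le_of_ne h fun e =>
    hn ⟨e ▸ Submodule.subset_span (Set.mem_insert _ _), e ▸ Submodule.subset_span (Set.mem_insert_of_mem _ rfl)⟩
  haveI : Module.Finite k ↥(Submodule.span k ({u, w} : Set k[X])) := Module.Finite.span_of_finite k (Set.toFinite _)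
  have h1 := Submodule.finrank_lt_finrank_of_lt hlt
  have h2 : Module.finrank k ↥(Submodule.span k ({u, w} : Set k[X])) ≤ 2 := by
    have := finrank_span_finset_le_card (R := k) ({u, w} : Finset k[X])
    rw [Finset.coe_pair] at this
    exact this.trans Finset.card_le_two
  omega

end Groth.Agent.EffDivW
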